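import Groth.Agent.H16Derived.BaseChange.Main

/-!
# Base change with affine bases, knowing `Tor` independence on affine opens of the source only
-/

set_option autoImplicit false
set_option linter.style.haveILetI false
set_option backward.isDefEq.respectTransparency false

universe u

open CategoryTheory CategoryTheory.Limits AlgebraicGeometry TensorProduct

attribute [local instance] HasDerivedCategory.standard
attribute [local instance] Algebra.TensorProduct.rightAlgebra

namespace Groth.Agent.H16Derived.BaseChange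

open Groth.Agent.H16Derived.KFlat Groth.Agent.H16Derived.KFlat.Stalk

variable {X X' : Scheme.{u}}

/-- `Tor` independence of the affine opens of the source, over affine bases. -/
def TorInd {A A' : CommRingCat.{u}} (f : X ⟶ Spec A) (φ : A ⟶ A') : Prop :=
  ∀ (B : CommRingCat.{u}) (k : Spec B ⟶ X) [IsOpenImmersion k] (ψ : A ⟶ B), Spec.map ψ = k ≫ f →
    ∀ i : ℕ, 0 < i → Subsingleton (@DRing.Tor A _ i A' B _ φ.hom.toModule _ ψ.hom.toModule)

theorem TorInd.comp {A A' : CommRingCat.{u}} {f : X ⟶ Spec A} {φ : A ⟶ A'} (h : TorInd f φ) {U : Scheme.{u}}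
    (k : U ⟶ X) [IsOpenImmersion k] : TorInd (k ≫ f) φ := fun B l _ ψ hψ =>
  h B (l ≫ k) ψ (by rw [hψ, Category.assoc])

/-- The affine case. -/
theorem bc_affine₀ {A A' : CommRingCat.{u}} [IsAffine X] {f : X ⟶ Spec A} {f' : X' ⟶ Spec A'}
    {φ : A ⟶ A'} {g' : X' ⟶ X} (h : IsPullback g' f' f (Spec.map φ)) (hTI : TorInd f φ) :
    BC f f' (Spec.map φ) g' := by
  obtain ⟨B, σ, _, ψ, hψ⟩ : ∃ (B : CommRingCat.{u}) (σ : Spec B ⟶ X) (_ : IsIso σ) (ψ : A ⟶ B),
      Spec.map ψ = σ ≫ f := ⟨Γ(X, ⊤), X.isoSpec.inv, inferInstance, Spec.preimage _, Spec.map_preimage _⟩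
  algebraize [φ.hom, ψ.hom]
  have htor : ∀ p : ℕ, 0 < p → Subsingleton (DRing.Tor A p A' B) := fun p hp =>
    hTI B σ ψ hψ p hp
  let B' := (A' : Type u) ⊗[(A : Type u)] (B : Type u)
  let f₀ : Spec (CommRingCat.of B') ⟶ Spec A' := Spec.map (CommRingCat.ofHom (algebraMap A' B'))
  let g₀ : Spec (CommRingCat.of B') ⟶ Spec B := Spec.map (CommRingCat.ofHom (algebraMap B B'))
  have h₀ : IsPullback g₀ f₀ (Spec.map ψ) (Spec.map φ) :=
    (isPullback_SpecMap_of_isPushout _ _ _ _
      (CommRingCat.isPushout_of_isPushout A A' B B')).flip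
  have hbc : BC (Spec.map ψ) f₀ (Spec.map φ) g₀ := bc_spec A A' B B' htor
  haveI := hasLpull f
  haveI := QCohD.hasRpush f
  haveI := hasLpull f'
  haveI := QCohD.hasRpush f'
  haveI := hasLpull (Spec.map φ)
  haveI := hasLpull g'
  haveI := hasLpull (𝟙 (Spec A'))
  let τ := h.lift (g₀ ≫ σ) f₀ (by rw [Category.assoc, ← hψ]; exact h₀.w)
  have hτ : τ ≫ g' = g₀ ≫ σ := h.lift_fst _ _ _
  have hV : IsPullback σ (Spec.map ψ) f (𝟙 _) :=
    IsPullback.of_horiz_isIso ⟨by rw [Category.comp_id, hψ]⟩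
  have hV' : IsPullback τ f₀ f' (𝟙 _) := by
    refine IsPullback.of_right ?_ (by rw [Category.comp_id]; exact h.lift_snd _ _ _) h
    rw [hτ, Category.id_comp]
    simpa using h₀.paste_horiz hV
  refine bc_of_can fun χ E hE => isIso_of_charts _ fun y =>
    ⟨_, 𝟙 _, inferInstance, inferInstance, ⟨y, rfl⟩, ?_⟩
  exact isIso_lpull_bcApp hV hV' (by simp) hτ.symm hbc χ E hE

/-- The devissage step: base change over affine bases, knowing it for affine opens of the source. -/
theorem bc_step₀ {A A' : CommRingCat.{u}} {f : X ⟶ Spec A} {f' : X' ⟶ Spec A'} {φ : A ⟶ A'}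
    {g' : X' ⟶ X} (h : IsPullback g' f' f (Spec.map φ)) (hTI : TorInd f φ) [QuasiCompact f]
    [QuasiSeparated f]
    (hk : ∀ (B : CommRingCat.{u}) (k : Spec B ⟶ X) [IsOpenImmersion k] (U' : Scheme.{u})
      (k' : U' ⟶ X') (gU : U' ⟶ Spec B), IsPullback gU k' k g' → BC k k' g' gU) :
    BC f f' (Spec.map φ) g' := by
  haveI := hasLpull f
  haveI := QCohD.hasRpush f
  haveI := hasLpull f'
  haveI := QCohD.hasRpush f'
  haveI := hasLpull (Spec.map φ)
  haveI := hasLpull g'
  haveI := QCohD.hasRpush g'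
  haveI : CompactSpace X := QuasiCompact.compactSpace_of_compactSpace f
  haveI : QuasiSeparatedSpace X := quasiSeparatedSpace_of_quasiSeparated f
  refine bc_of_can fun χ E hE => ?_
  letI := rpushCommShift f
  haveI := rpush_isTriangulated f
  letI := rpushCommShift f'
  haveI := rpush_isTriangulated f'
  letI := lpullCommShift (Spec.map φ)
  haveI := lpull_isTriangulated (Spec.map φ)
  letI := lpullCommShift g'
  haveI := lpull_isTriangulated g'
  refine isIso_app_of_affine (bc (lpullRpushAdj f) (lpullRpushAdj f') χ.hom) (fun B k _ => ?_) E hE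
  intro M hM
  haveI := QCohD.hasRpush k
  let hU := IsPullback.of_hasPullback k g'
  let k' := pullback.snd k g'
  let gU := pullback.fst k g'
  haveI := hasLpull k
  haveI := hasLpull k'
  haveI := QCohD.hasRpush k'
  haveI := hasLpull gU
  obtain ⟨ψ⟩ := nonempty_sq hU.w (isLp_self k) (isLp_self k') (isLp_self g') (isLp_self gU)
  have hcomp := bc_affine₀ (hU.paste_vert h) (hTI.comp k)
  let Φ : DCoh.Lpull (Spec.map φ) ⋙ (DCoh.Lpull f' ⋙ DCoh.Lpull k') ≅
      (DCoh.Lpull f ⋙ DCoh.Lpull k) ⋙ DCoh.Lpull gU :=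
    (Functor.associator _ _ _).symm ≪≫ Functor.isoWhiskerRight χ _ ≪≫ Functor.associator _ _ _ ≪≫
      Functor.isoWhiskerLeft _ ψ ≪≫ (Functor.associator _ _ _).symm
  have hΦ : Φ.hom = pasteF χ.hom ψ.hom := by
    ext c
    simp [Φ, pasteF]
  have h1 : IsIso (bcApp ((lpullRpushAdj f).comp (lpullRpushAdj k))
      ((lpullRpushAdj f').comp (lpullRpushAdj k')) Φ.hom M) :=
    hcomp _ _ _ _ _ _ _ _ ((isLp_self f).comp (isLp_self k)) ((isLp_self f').comp (isLp_self k'))
      (isLp_self _) (isLp_self gU) Φ M hM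
  rw [hΦ, bcApp_pasteF] at h1
  haveI := hk B k _ k' gU hU _ _ _ _ _ _ (lpullRpushAdj k) (lpullRpushAdj k') (isLp_self k)
    (isLp_self k') (isLp_self g') (isLp_self gU) ψ M hM
  exact @IsIso.of_isIso_comp_right _ _ _ _ _ _
    ((DCoh.Rpush f').map (bcApp (lpullRpushAdj k) (lpullRpushAdj k') ψ.hom M)) inferInstance h1

/-- Base change along a map of affine bases. -/
theorem bc_torInd {A A' : CommRingCat.{u}} {f : X ⟶ Spec A} {f' : X' ⟶ Spec A'} {φ : A ⟶ A'}
    {g' : X' ⟶ X} (h : IsPullback g' f' f (Spec.map φ)) (hTI : TorInd f φ) [IsSeparated f] [QuasiCompact f] :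
    BC f f' (Spec.map φ) g' :=
  bc_step₀ h hTI fun B k _ U' k' gU hU => by
    haveI : X.IsSeparated := ⟨by rw [← terminal.comp_from f]; infer_instance⟩
    haveI : IsAffineHom k := MorphismProperty.of_postcomp (W := @IsAffineHom) (W' := @IsSeparated) k f
      inferInstance inferInstance
    exact bc_affineHom hU (ti_of_flat k g')

end Groth.Agent.H16Derived.BaseChange
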