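import Groth.Agent.H16Derived.BlowKoszul.Tor
import Groth.Agent.H16Derived.BlowKoszul.BC
import Groth.Agent.H16Derived.BaseChange.TorChart
import Groth.Agent.H7Blow.BaseChange

/-!
# Blow-ups of spectra in Koszul-regular sequences under base change
-/

set_option autoImplicit false
set_option linter.style.haveILetI false
set_option backward.isDefEq.respectTransparency false

universe u

open CategoryTheory CategoryTheory.Limits AlgebraicGeometry TensorProduct
open Groth.Agent.H26Blow Groth.Agent.H7Blow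
open Groth.Agent.H16Derived.KoszulPow (Reg reg_iff kEq_reg kEq_of_perm)
open Groth.Agent.H17.RegDescent

namespace Groth.Agent.H16Derived.BlowKoszul

section Local

variable {R : CommRingCat.{u}} {Z : Scheme.{u}} (F : Z ⟶ Spec R) (N : ModuleCat.{u} R)

/-- The structure map on an open. -/
noncomputable def ρ (V : Z.Opens) : R ⟶ Γ(Z, V) :=
  (Scheme.ΓSpecIso R).inv ≫ F.appLE ⊤ V le_top

theorem spec_ρ {V : Z.Opens} (hV : IsAffineOpen V) : Spec.map (ρ F V) = hV.fromSpec ≫ F := by
  rw [ρ, Spec.map_comp, ← IsAffineOpen.SpecMap_appLE_fromSpec F (isAffineOpen_top _) hV le_top,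
    IsAffineOpen.fromSpec_top, Scheme.isoSpec_Spec_inv]

theorem ρ_germ (V : Z.Opens) (z : Z) (hz : z ∈ V) :
    ρ F V ≫ Z.presheaf.germ V z hz = (Scheme.ΓSpecIso R).inv ≫ F.appTop ≫ Z.presheaf.germ ⊤ z trivial := by
  rw [ρ, Category.assoc, Scheme.Hom.appLE, Category.assoc, Z.presheaf.germ_res]
  rfl

/-- Vanishing on an open. -/
def GoodT (V : Z.Opens) (i : ℕ) : Prop :=
  letI := (ρ F V).hom.toAlgebra
  TorZero Γ(Z, V) i N

/-- Vanishing passes from a covering family of affine opens to all of them. -/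
theorem goodT_of_cover (i : ℕ) (h : ∀ z : Z, ∃ U : Z.Opens, IsAffineOpen U ∧ z ∈ U ∧ GoodT F N U i)
    {V : Z.Opens} (hV : IsAffineOpen V) : GoodT F N V i := by
  letI := (ρ F V).hom.toAlgebra
  refine torZero_of_local i N fun p hp => ?_
  let z : Z := hV.fromSpec ⟨p, hp.isPrime⟩
  have hzV : z ∈ V := hV.range_fromSpec.le (Set.mem_range_self _)
  obtain ⟨U, hU, hzU, hgood⟩ := h z
  letI := (ρ F U).hom.toAlgebra
  let L := Z.presheaf.stalk z
  letI : Algebra Γ(Z, V) L := (Z.presheaf.germ V z hzV).hom.toAlgebra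
  letI : Algebra Γ(Z, U) L := (Z.presheaf.germ U z hzU).hom.toAlgebra
  letI : Algebra R L := (ρ F V ≫ Z.presheaf.germ V z hzV).hom.toAlgebra
  haveI : IsScalarTower R Γ(Z, V) L := IsScalarTower.of_algebraMap_eq fun r => rfl
  haveI : IsScalarTower R Γ(Z, U) L := IsScalarTower.of_algebraMap_eq fun r => by
    show (ρ F V ≫ Z.presheaf.germ V z hzV).hom r = (ρ F U ≫ Z.presheaf.germ U z hzU).hom r
    rw [ρ_germ, ρ_germ]
  haveI hVL : IsLocalization p.primeCompl L := by
    exact hV.isLocalization_stalk' ⟨p, hp.isPrime⟩ hzV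
  haveI : IsLocalization (hU.primeIdealOf ⟨z, hzU⟩).asIdeal.primeCompl L :=
    hU.isLocalization_stalk ⟨z, hzU⟩
  haveI : Module.Flat Γ(Z, U) L := IsLocalization.flat L (hU.primeIdealOf ⟨z, hzU⟩).asIdeal.primeCompl
  exact ⟨L, inferInstance, inferInstance, inferInstance, inferInstance, hVL, torZero_of_flat i N hgood⟩

/-- From the opens to `Tor` independence. -/
theorem torInd_of_goodT {R' : CommRingCat.{u}} (φ : R ⟶ R')
    (h : ∀ (V : Z.Opens), IsAffineOpen V → ∀ i, letI := φ.hom.toAlgebra; GoodT F (ModuleCat.of R R') V i) :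
    BaseChange.TorInd F φ := by
  intro B k _ ψ hψ i hi
  obtain ⟨ε, _, hε⟩ := BaseChange.exists_ringIso_of_opensRange k
  let V := k.opensRange
  have hc : ρ F V ≫ ε = ψ := Spec.map_injective (by
    rw [Spec.map_comp, spec_ρ F (isAffineOpen_opensRange k), ← Category.assoc, hε, hψ])
  obtain ⟨i, rfl⟩ := Nat.exists_eq_succ_of_ne_zero hi.ne'
  letI := φ.hom.toAlgebra
  letI := ψ.hom.toAlgebra
  letI := (ρ F V).hom.toAlgebra
  let e : Γ(Z, V) ≃ₗ[R] B := LinearEquiv.ofBijective
    { toFun := ε, map_add' := map_add _, map_smul' := fun r x => by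
        show ε (ρ F V r * x) = ψ r * ε x
        rw [map_mul, ← hc, CommRingCat.comp_apply] } (ConcreteCategory.bijective_of_isIso ε)
  have h0 : IsZero (((Tor (ModuleCat.{u} R) (i + 1)).obj (ModuleCat.of R Γ(Z, V))).obj (ModuleCat.of R R')) :=
    h V (isAffineOpen_opensRange k) i
  obtain ⟨c⟩ := H3CAlg.TorComm.nonempty_iso (i + 1) (ModuleCat.of R R') (ModuleCat.of R B)
  exact ModuleCat.subsingleton_of_isZero ((h0.of_iso
    (((Tor (ModuleCat.{u} R) (i + 1)).mapIso e.symm.toModuleIso).app (ModuleCat.of R R'))).of_iso c)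

end Local

variable {R A : CommRingCat.{u}} (rs : List R) (φ : R ⟶ A)

/-- Base change of the centre. -/
theorem comap_centre : (centre (Ideal.ofList rs)).comap (Spec.map φ) = centre (Ideal.ofList (rs.map φ.hom)) := by
  refine Scheme.IdealSheafData.ext_of_isAffine ?_
  rw [ideal_centre_comap, ideal_centre_top, Ideal.map_ofList]
  rfl

/-- The data of the chart at a member of the sequence. -/
theorem exists_chart_data (hrs : Reg rs) (hrsA : Reg (rs.map φ.hom)) (x : Proj (gr (Ideal.ofList rs))) :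
    ∃ (a : Ideal.ofList rs) (n : ℕ) (c : Fin n → R), x ∈ Set.range (j (Ideal.ofList rs) a) ∧
      Reg ((a : R) :: List.ofFn c) ∧ Reg (φ.hom a :: List.ofFn fun m => φ.hom (c m)) ∧
      (chartHom (a : R) c).range = Alg (Ideal.ofList rs) a := by
  obtain ⟨a, ha, hxa⟩ := exists_gen_mem_basicOpen _ rs rfl x
  rw [← opensRange_j] at hxa
  obtain ⟨pre, post, hsplit⟩ := List.append_of_mem ha
  have hperm : rs.Perm ((a : R) :: List.ofFn (pre ++ post).get) := by
    rw [List.ofFn_get]
    exact (List.Perm.of_eq hsplit).trans List.perm_middle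
  refine ⟨a, _, (pre ++ post).get, hxa, kEq_reg (kEq_of_perm hperm) hrs, ?_, ?_⟩
  · have h2 := kEq_reg (kEq_of_perm (hperm.map φ.hom)) hrsA
    rw [List.map_cons, List.map_ofFn] at h2
    exact h2
  · rw [range_chartHom, ← H17.RegDescent.ofList_perm hperm]
    rfl

/-- The blow-up is `Tor` independent of the base change. -/
theorem torInd_π (hrs : Reg rs) (hrsA : Reg (rs.map φ.hom)) : BaseChange.TorInd (π (Ideal.ofList rs)) φ := by
  refine torInd_of_goodT _ φ fun V hV i => ?_
  letI := φ.hom.toAlgebra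
  refine goodT_of_cover _ _ i (fun z => ?_) hV
  obtain ⟨a, n, c, hz, H, H', hrange⟩ := exists_chart_data rs φ hrs hrsA z
  let U := (j (Ideal.ofList rs) a).opensRange
  refine ⟨U, isAffineOpen_opensRange _, hz, ?_⟩
  obtain ⟨ε, _, hε⟩ := BaseChange.exists_ringIso_of_opensRange (j (Ideal.ofList rs) a)
  have hc : ρ (π (Ideal.ofList rs)) U ≫ ε = CommRingCat.ofHom (algebraMap R (Alg (Ideal.ofList rs) a)) :=
    Spec.map_injective (by
      rw [Spec.map_comp, spec_ρ _ (isAffineOpen_opensRange _), ← Category.assoc, hε, j_π])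
  letI := (ρ (π (Ideal.ofList rs)) U).hom.toAlgebra
  let e₁ : Γ(Proj (gr (Ideal.ofList rs)), U) ≃ₗ[R] Alg (Ideal.ofList rs) a := LinearEquiv.ofBijective
    { toFun := ε, map_add' := map_add _, map_smul' := fun r x => by
        show ε (ρ (π (Ideal.ofList rs)) U r * x) = r • ε x
        rw [map_mul, ← CommRingCat.comp_apply, hc, Algebra.smul_def]
        rfl } (ConcreteCategory.bijective_of_isIso ε)
  let C := MvPolynomial (Fin n) R ⧸ Ideal.ofList (rel (a : R) c)
  let q := (chartHom (a : R) c).rangeRestrict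
  have hker : RingHom.ker q.toRingHom = Ideal.ofList (rel (a : R) c) :=
    (Ideal.ext fun x => ⟨fun h => congrArg Subtype.val h, fun h => Subtype.ext h⟩).trans (ker_chartHom _ c H)
  let e₂ : C ≃ₐ[R] Alg (Ideal.ofList rs) a :=
    ((Ideal.quotientEquivAlgOfEq R hker.symm).trans
      (Ideal.quotientKerAlgEquivOfSurjective (chartHom (a : R) c).rangeRestrict_surjective)).trans
      (Subalgebra.equivOfEq _ _ hrange)
  exact (torZero_chart (A := A) (a : R) c H H' i).of_iso
    (((Tor (ModuleCat.{u} R) (i + 1)).mapIso (e₁.trans e₂.symm.toLinearEquiv).toModuleIso).app _)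

set_option maxHeartbeats 800000 in
/-- The base change is the blow-up. -/
theorem isBlowUp_pullback (hrs : Reg rs) (hrsA : Reg (rs.map φ.hom)) :
    BlowUp.IsBlowUp (pullback.snd (π (Ideal.ofList rs)) (Spec.map φ)) (centre (Ideal.ofList (rs.map φ.hom))) := by
  let b := π (Ideal.ofList rs)
  let g := Spec.map φ
  let 𝓘 := centre (Ideal.ofList rs)
  have hb : BlowUp.IsBlowUp b 𝓘 := isBlowUp_π _
  rw [← comap_centre]
  refine ⟨?_, fun Y h hY => ?_⟩
  · intro z
    obtain ⟨a, n, c, hz, H, H', hrange⟩ := exists_chart_data rs φ hrs hrsA (pullback.fst b g z)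
    letI : Algebra R A := φ.hom.toAlgebra
    have hnzd := baseChange_nonZeroDivisor (A' := A) (a : R) c H H'
    rw [hrange] at hnzd
    let S : CommRingCat.{u} := CommRingCat.of (↥(Alg (Ideal.ofList rs) a) ⊗[R] A)
    let p1 := Spec.map (CommRingCat.ofHom (algebraMap R (Alg (Ideal.ofList rs) a)))
    have hj : p1 ≫ 𝟙 _ = j (Ideal.ofList rs) a ≫ b := by rw [Category.comp_id, j_π]
    have hg : Spec.map (CommRingCat.ofHom (algebraMap R A)) ≫ 𝟙 _ = 𝟙 (Spec A) ≫ g := by
      rw [Category.comp_id, Category.id_comp]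
      rfl
    let mm : Spec S ⟶ pullback b g := (pullbackSpecIso R (Alg (Ideal.ofList rs) a) A).inv ≫
      pullback.map p1 (Spec.map (CommRingCat.ofHom (algebraMap R A))) b g (j _ a) (𝟙 _) (𝟙 _) hj hg
    haveI : IsOpenImmersion mm := inferInstance
    have hzmm : z ∈ Set.range mm := by
      have hsurj : Function.Surjective (pullbackSpecIso R (Alg (Ideal.ofList rs) a) A).inv :=
        (Scheme.homeoOfIso (pullbackSpecIso R (Alg (Ideal.ofList rs) a) A).symm).surjective
      rw [show mm = (pullbackSpecIso R (Alg (Ideal.ofList rs) a) A).inv ≫ _ from rfl, Scheme.Hom.comp_base,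
        TopCat.coe_comp, hsurj.range_comp, Scheme.Pullback.range_map]
      exact ⟨hz, ⟨pullback.snd b g z, rfl⟩⟩
    have hmmg : mm ≫ pullback.snd b g ≫ g = Spec.map (CommRingCat.ofHom (algebraMap R S)) := by
      simp only [mm, Category.assoc, pullback.lift_snd_assoc, pullback.map, Category.id_comp]
      rw [pullbackSpecIso_inv_snd_assoc, ← Spec.map_comp]
      refine congrArg Spec.map (CommRingCat.hom_ext (RingHom.ext fun r => ?_))
      exact (Algebra.TensorProduct.includeRight (R := R) (A := Alg (Ideal.ofList rs) a) (B := A)).commutes r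
    have hgen : ((𝓘.comap g).comap (pullback.snd b g)).comap mm =
        𝓘.comap (Spec.map (CommRingCat.ofHom (algebraMap R S))) := by
      rw [← Scheme.IdealSheafData.comap_comp, ← Scheme.IdealSheafData.comap_comp, Category.assoc, hmmg]
    obtain ⟨w, rfl⟩ := hzmm
    have heff : BlowUp.IsEffCartierIdeal (((𝓘.comap g).comap (pullback.snd b g)).comap mm) := by
      rw [hgen]
      intro x
      refine ⟨⟨⊤, isAffineOpen_top _⟩, trivial, (Scheme.ΓSpecIso S).inv.hom (algebraMap R S (a : R)), ?_, ?_⟩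
      · refine mem_nonZeroDivisors_iff_right.2 fun y hy => ?_
        obtain ⟨y', rfl⟩ := (ConcreteCategory.bijective_of_isIso (Scheme.ΓSpecIso S).inv).2 y
        rw [← map_mul] at hy
        rw [mem_nonZeroDivisors_iff_right.1 hnzd y'
          ((ConcreteCategory.bijective_of_isIso (Scheme.ΓSpecIso S).inv).1 (hy.trans (map_zero _).symm))]
        exact map_zero _
      · rw [ideal_centre_comap, CommRingCat.hom_ofHom]
        have hs : (Ideal.ofList rs).map (algebraMap R S) = Ideal.span {algebraMap R S (a : R)} := by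
          rw [IsScalarTower.algebraMap_eq R (Alg (Ideal.ofList rs) a) S, ← Ideal.map_map, map_eq_span,
            Ideal.map_span, Set.image_singleton]
          rfl
        rw [hs, Ideal.map_span, Set.image_singleton]
    obtain ⟨W, hwW, e, he, heW⟩ := heff w
    let ei := (mm.appIso W.1).commRingCatIsoToRingEquiv
    refine ⟨⟨_, W.2.image_of_isOpenImmersion mm⟩, ⟨w, hwW, rfl⟩, ei.symm e, ?_, ?_⟩
    · rw [mem_nonZeroDivisors_iff_right]
      intro s hs
      refine ei.injective ((mem_nonZeroDivisors_iff_right.1 he _ ?_).trans (map_zero ei).symm)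
      rw [← ei.apply_symm_apply e, ← map_mul, hs, map_zero]
    · rw [Scheme.IdealSheafData.ideal_comap_of_isOpenImmersion] at heW
      refine Ideal.comap_injective_of_surjective _ (ConcreteCategory.bijective_of_isIso (mm.appIso W).inv).2 ?_
      rw [heW]
      change _ = Ideal.comap ei.symm (Ideal.span {ei.symm e})
      rw [Ideal.comap_symm, Ideal.map_span, Set.image_singleton, ei.apply_symm_apply]
  · rw [← Scheme.IdealSheafData.comap_comp] at hY
    obtain ⟨k, hk, hk'⟩ := hb.2 Y (h ≫ g) hY
    refine ⟨pullback.lift k h hk, pullback.lift_snd _ _ _, fun m hm => ?_⟩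
    apply pullback.hom_ext
    · rw [pullback.lift_fst]
      exact hk' _ (by
        show (m ≫ pullback.fst b g) ≫ b = h ≫ g
        rw [Category.assoc, pullback.condition, ← Category.assoc]
        exact congrArg (· ≫ g) hm)
    · rw [hm, pullback.lift_snd]

end Groth.Agent.H16Derived.BlowKoszul
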