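import Groth.Agent.H16Derived.BlowKoszul.Main
import Groth.Agent.H02CA.FMConv.ProjNat
import Groth.Agent.H16Derived.Dual.Main
import Groth.Agent.H16Derived.Dual.PerfQCoh
import Groth.Agent.H16Derived.Thomason.Cells
import Groth.Prelude.Def_SGA6

/-!
# `Rf_* Lf^*` is the identity on perfect objects for a blow-up in a Koszul-regular centre
-/

set_option autoImplicit false
set_option linter.style.haveILetI false
set_option backward.isDefEq.respectTransparency false

universe u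

open CategoryTheory CategoryTheory.Limits AlgebraicGeometry Pretriangulated
open scoped ZeroObject
open Groth.Agent.H16Derived.KFlat Groth.Agent.H16Derived.KFlat.Stalk

attribute [local instance] HasDerivedCategory.standard

namespace Groth.Agent.H16Derived.BlowKoszul

/-- Isomorphic perfect objects have the same class. -/
theorem mk_eq_of_iso {X : Scheme.{u}} {K L : DCoh.D X} (e : K ≅ L) (hK : DCoh.IsPerfect K) (hL : DCoh.IsPerfect L) :
    (QuotientAddGroup.mk (FreeAbelianGroup.of ⟨K, hK⟩) : SGA6.Kperf X) =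
      QuotientAddGroup.mk (FreeAbelianGroup.of ⟨L, hL⟩) := by
  have hz : IsZero (0 : DCoh.D X) := isZero_zero _
  have h0 : DCoh.IsPerfect (0 : DCoh.D X) := Thomason.isPerfect_zero hz
  have rel : ∀ {T : Triangle (DCoh.D X)}, T ∈ distTriang _ → (h₁ : DCoh.IsPerfect T.obj₁) → (h₂ : DCoh.IsPerfect T.obj₂) →
      (h₃ : DCoh.IsPerfect T.obj₃) → (QuotientAddGroup.mk (FreeAbelianGroup.of ⟨T.obj₂, h₂⟩) : SGA6.Kperf X) =
        QuotientAddGroup.mk (FreeAbelianGroup.of ⟨T.obj₁, h₁⟩) + QuotientAddGroup.mk (FreeAbelianGroup.of ⟨T.obj₃, h₃⟩) := by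
    intro T hT h₁ h₂ h₃
    rw [← QuotientAddGroup.mk_add, eq_comm, QuotientAddGroup.eq_iff_sub_mem]
    have hm : (FreeAbelianGroup.of (⟨T.obj₂, h₂⟩ : Subtype (SGA6.perfP X)) -
        FreeAbelianGroup.of ⟨T.obj₁, h₁⟩ - FreeAbelianGroup.of ⟨T.obj₃, h₃⟩) ∈ KZero.relTr (SGA6.perfP X) := by
      rw [KZero.relTr]
      exact AddSubgroup.subset_closure ⟨T, h₁, h₂, h₃, hT, rfl⟩
    refine (AddSubgroup.neg_mem_iff _).1 ?_
    convert hm using 1
    abel
  have e0 := rel (contractible_distinguished (0 : DCoh.D X)) h0 h0 h0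
  simp only [contractibleTriangle_obj₁, contractibleTriangle_obj₂, contractibleTriangle_obj₃] at e0
  have hzero : (QuotientAddGroup.mk (FreeAbelianGroup.of ⟨(0 : DCoh.D X), h0⟩) : SGA6.Kperf X) = 0 :=
    left_eq_add.1 e0
  have hT : Triangle.mk e.hom (0 : L ⟶ 0) (0 : (0 : DCoh.D X) ⟶ K⟦(1 : ℤ)⟧) ∈ distTriang _ :=
    isomorphic_distinguished _ (contractible_distinguished K) _
      (Triangle.isoMk _ _ (Iso.refl _) e.symm (Iso.refl _) (e.hom_inv_id.trans (Category.id_comp _).symm)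
        (zero_comp.trans comp_zero.symm) (zero_comp.trans comp_zero.symm))
  have h := rel hT hK hL h0
  simp only [Triangle.mk_obj₁, Triangle.mk_obj₂, Triangle.mk_obj₃] at h
  rw [h, hzero, add_zero]

variable {X Y X' : Scheme.{u}} (i : Y ⟶ X) [IsClosedImmersion i] (hi : RegImm.IsRegularImmersion .koszul i)
  (hdense : Dense (Set.range i)ᶜ) (f : X' ⟶ X) (hf : BlowUp.IsBlowUp f i.ker)

include hi hdense hf in
/-- **`Rf_* Lf^* K ≅ K`.** -/
theorem nonempty_rpush_lpull [DCoh.HasLpull f] [DCoh.HasRpush f] {K : DCoh.D X} (hK : DCoh.IsPerfect K) :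
    Nonempty ((DCoh.Rpush f).obj ((DCoh.Lpull f).obj K) ≅ K) := by
  obtain ⟨hvan, hunit⟩ := main i f hi hdense hf
  haveI : IsProper f := H26Blow.isProper_of_isBlowUp hf fun x => by
    obtain ⟨U, n, g, hxU, -, hI⟩ := exists_affine_pos i hi hdense x
    exact ⟨U, hxU, hI.symm ▸ Submodule.fg_span (List.finite_toSet _)⟩
  haveI := hunit
  let O' := Coh.structureModule X'
  let O := Coh.structureModule X
  obtain ⟨t⟩ := H11Blow.nonempty_idealMod_top' (X := X')
  have hLE : ((DCoh.Rpush f).obj (DCoh.inD X' O')).IsLE 0 := by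
    refine isLE_of_isZero_rpushAb f O' fun q hq => (hvan 0 q hq).of_iso ?_
    exact (Coh.RpushAb f q).mapIso ((H10Coh.shF X').mapIso
      (eqToIso (congrArg ClSub.idealMod (pow_zero (BlowUp.exceptional f i.ker))) ≪≫ t).symm)
  haveI := hLE
  haveI : ((DCoh.Rpush f).obj (DCoh.inD X' O')).IsGE 0 := isGE_rpush f _ 0
  obtain ⟨M', ⟨eM⟩⟩ := DerivedCategory.exists_iso_singleFunctor_obj_of_isGE_of_isLE
    ((DCoh.Rpush f).obj (DCoh.inD X' O')) 0
  obtain ⟨e₀⟩ := nonempty_hd_zero_push f O'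
  let eO : M' ≅ O := ((DerivedCategory.singleFunctorCompHomologyFunctorIso _ 0).app M').symm ≪≫
    (DerivedCategory.homologyFunctor _ 0).mapIso eM.symm ≪≫ e₀ ≪≫
      ((asIso ((Scheme.Modules.pullbackPushforwardAdjunction f).unit.app O)) ≪≫
        (Scheme.Modules.pushforward f).mapIso (structurePullbackIso f)).symm
  let eone : (DCoh.Rpush f).obj (Dual.one X') ≅ Dual.one X :=
    (DCoh.Rpush f).mapIso Dual.oneIso.symm ≪≫ eM ≪≫ (DerivedCategory.singleFunctor _ 0).mapIso eO ≪≫ Dual.oneIso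
  let W : Discrete PUnit.{1} ⥤ DCoh.D X' := Discrete.functor fun _ => Dual.one X'
  obtain ⟨π⟩ := H02CA.FMConv.nonempty_projection_TFlip f W
    (fun _ => QCohD.isQCohD_iso Dual.oneIso (TorTest.isQCohD_inD H10Coh.isQuasicoherent_unit))
    (Dual.isQCohD_of_isPerfect hK)
  let eL : ∀ {Z : Scheme.{u}} (G : DCoh.D Z), ((Dual.T Z).obj (Dual.one Z)).obj G ≅ G := fun {Z} G =>
    Dual.σ (Dual.one Z) G ≪≫ (Dual.rightUnit Z).app G
  exact ⟨((DCoh.Rpush f).mapIso (eL _)).symm ≪≫ (π.app ⟨PUnit.unit⟩).symm ≪≫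
    ((Dual.T X).mapIso eone).app K ≪≫ eL K⟩

include hi hdense hf in
/-- `f_* f^* = id` on `K^•`. -/
theorem mapTr_comp [DCoh.HasLpull f] [(DCoh.Lpull f).CommShift ℤ] [(DCoh.Lpull f).IsTriangulated]
    (hpull : ∀ K : DCoh.D X, DCoh.IsPerfect K → DCoh.IsPerfect ((DCoh.Lpull f).obj K))
    [DCoh.HasRpush f] [(DCoh.Rpush f).CommShift ℤ] [(DCoh.Rpush f).IsTriangulated]
    (hpush : ∀ K : DCoh.D X', DCoh.IsPerfect K → DCoh.IsPerfect ((DCoh.Rpush f).obj K)) (x : SGA6.Kperf X) :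
    SGA6.mapTr (DCoh.Rpush f) (SGA6.perfP X') (SGA6.perfP X) hpush
      (SGA6.mapTr (DCoh.Lpull f) (SGA6.perfP X) (SGA6.perfP X') hpull x) = x := by
  induction x using QuotientAddGroup.induction_on with
  | H a =>
    induction a using FreeAbelianGroup.induction_on with
    | zero => simp
    | of K =>
      obtain ⟨e⟩ := nonempty_rpush_lpull i hi hdense f hf K.2
      exact mk_eq_of_iso e _ _
    | neg K h =>
      rw [QuotientAddGroup.mk_neg, map_neg, map_neg, h]
    | add a b ha hb =>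
      rw [QuotientAddGroup.mk_add, map_add, map_add, ha, hb]

end Groth.Agent.H16Derived.BlowKoszul
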