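import Groth.Agent.H16Derived.BlowKoszul.Universal
import Groth.Agent.H16Derived.BlowKoszul.Chart
import Groth.Agent.H16Derived.H0Split.Unit
import Groth.Agent.H16Derived.TorTest.RpushAmp

/-!
# Direct images along a blow-up of a spectrum in a Koszul-regular sequence
-/

set_option autoImplicit false
set_option linter.style.haveILetI false
set_option backward.isDefEq.respectTransparency false

universe u

open CategoryTheory CategoryTheory.Limits AlgebraicGeometry Opposite
open Groth.Agent.H26Blow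
open Groth.Agent.H16Derived.KFlat Groth.Agent.H16Derived.KFlat.Stalk
open Groth.Agent.H16Derived.KoszulPow (Reg reg_iff)

attribute [local instance] HasDerivedCategory.standard

namespace Groth.Agent.H16Derived.BlowKoszul

section Derived

variable {X Y : Scheme.{u}}

/-- No higher direct images from a bound. -/
theorem isZero_rpushAb_of_isLE (f : X ⟶ Y) [DCoh.HasRpush f] (M : X.Modules)
    (h : ((DCoh.Rpush f).obj (DCoh.inD X M)).IsLE 0) (q : ℕ) (hq : 1 ≤ q) :
    IsZero ((Coh.RpushAb f q).obj (Coh.toAb M)) := by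
  haveI := QCohD.hasInjectiveResolutions_modules (X := X)
  haveI := h
  obtain ⟨e⟩ := QCohD.nonempty_hd_rpush_single f M q
  obtain ⟨e'⟩ := H10Coh.nonempty_toAb_rpush f M q
  have h0 : IsZero ((Coh.Rpush f q).obj M) :=
    (DerivedCategory.isZero_of_isLE ((DCoh.Rpush f).obj (DCoh.inD X M)) 0 (q : ℤ) (by omega)).of_iso e.symm
  exact ((H10Coh.shF Y).map_isZero h0).of_iso e'.symm

/-- A bound from no higher direct images. -/
theorem isLE_of_isZero_rpushAb (f : X ⟶ Y) [DCoh.HasRpush f] (M : X.Modules)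
    (h : ∀ q : ℕ, 1 ≤ q → IsZero ((Coh.RpushAb f q).obj (Coh.toAb M))) :
    ((DCoh.Rpush f).obj (DCoh.inD X M)).IsLE 0 := by
  haveI := QCohD.hasInjectiveResolutions_modules (X := X)
  refine (DerivedCategory.isLE_iff _ _).2 fun i hi => ?_
  obtain ⟨q, rfl⟩ : ∃ q : ℕ, i = (q : ℤ) := ⟨i.toNat, by omega⟩
  obtain ⟨e⟩ := QCohD.nonempty_hd_rpush_single f M q
  obtain ⟨e'⟩ := H10Coh.nonempty_toAb_rpush f M q
  refine IsZero.of_iso ?_ e
  have h0 : IsZero (Coh.toAb ((Coh.Rpush f q).obj M)) := (h q (by omega)).of_iso e'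
  rw [IsZero.iff_id_eq_zero] at h0 ⊢
  exact (H10Coh.shF Y).map_injective (by
    rw [CategoryTheory.Functor.map_id, Functor.map_zero]
    exact h0)

/-- Degree zero of a direct image. -/
theorem nonempty_hd_zero_push (f : X ⟶ Y) [DCoh.HasRpush f] (M : X.Modules) :
    Nonempty (DCoh.HD ((DCoh.Rpush f).obj (DCoh.inD X M)) 0 ≅ (Scheme.Modules.pushforward f).obj M) := by
  haveI := QCohD.hasInjectiveResolutions_modules (X := X)
  obtain ⟨e⟩ := QCohD.nonempty_hd_rpush_single f M 0
  exact ⟨e ≪≫ (Scheme.Modules.pushforward f).rightDerivedZeroIsoSelf.app M⟩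

/-- Functions do not change if the direct image of the structure sheaf is trivial. -/
theorem bijective_app_of_push_iso (f : X ⟶ Y)
    (e : Coh.structureModule Y ≅ (Scheme.Modules.pushforward f).obj (Coh.structureModule X)) (U : Y.Opens) :
    Function.Bijective (f.app U) := by
  haveI := Scheme.Modules.Hom.isIso_iff_isIso_app.1 (inferInstance : IsIso e.hom) U
  let ψ : Γ(Y, U) → Γ(X, f ⁻¹ᵁ U) := fun r => e.hom.app U r
  have hψ : Function.Bijective ψ := ConcreteCategory.bijective_of_isIso (e.hom.app U)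
  let g : Γ(X, f ⁻¹ᵁ U) := ψ 1
  have hmul : ∀ r : Γ(Y, U), ψ r = f.app U r * g := fun r => by
    have h1 := e.hom.app_smul (U := U) r (1 : Γ(Y, U))
    exact (congrArg ψ (mul_one r).symm).trans h1
  obtain ⟨r₀, hr₀⟩ := hψ.2 1
  have hu : f.app U r₀ * g = 1 := (hmul r₀).symm.trans hr₀
  obtain ⟨c, hc⟩ := hψ.2 (g * g)
  have hg : g = f.app U c := by
    have h1 : f.app U c * g = g * g := (hmul c).symm.trans hc
    calc g = g * g * f.app U r₀ := by rw [mul_assoc, mul_comm g (f.app U r₀), hu, mul_one]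
      _ = f.app U c * g * f.app U r₀ := by rw [h1]
      _ = f.app U c := by rw [mul_assoc, mul_comm g (f.app U r₀), hu, mul_one]
  constructor
  · intro x y hxy
    exact hψ.1 (by rw [hmul, hmul, hxy])
  · intro x
    obtain ⟨r, rfl⟩ := hψ.2 x
    exact ⟨r * c, by rw [map_mul, hmul, ← hg]⟩

end Derived

variable {A : CommRingCat.{u}} {n : ℕ} (g : Fin (n + 1) → A)

/-- The map from the universal ring. -/
noncomputable def toA : UR.{u} n ⟶ A :=
  CommRingCat.ofHom (MvPolynomial.eval₂Hom ((Int.castRingHom A).comp ULift.ringEquiv.toRingHom) g)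

theorem map_vars : (vars.{u} n).map (toA g).hom = List.ofFn g := by
  rw [vars, List.map_ofFn]
  refine congrArg List.ofFn (funext fun j => ?_)
  simp [toA]

theorem reg_vars (n : ℕ) : Reg (vars.{u} n) := by
  have h := H7Blow.reg_X_sub_C (A := ULift.{u} ℤ) (fun _ : Fin (n + 1) => (0 : ULift.{u} ℤ))
  simp only [map_zero, sub_zero] at h
  exact h

/-- **The affine case.** -/
theorem affine_main (hg : Reg (List.ofFn g)) {X' : Scheme.{u}} (b' : X' ⟶ Spec A)
    (hb' : BlowUp.IsBlowUp b' (centre (Ideal.ofList (List.ofFn g)))) :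
    (∀ k q : ℕ, 1 ≤ q → IsZero ((Coh.RpushAb b' q).obj
      (Coh.toAb (ClSub.idealMod ((BlowUp.exceptional b' (centre (Ideal.ofList (List.ofFn g)))) ^ k))))) ∧
    ∀ U, Function.Bijective (b'.app U) := by
  let φ := toA g
  let rs := vars.{u} n
  have hrs : Reg rs := reg_vars n
  have hrsA : Reg (rs.map φ.hom) := by rw [map_vars]; exact hg
  let b := Uπ.{u} n
  haveI : IsProper b := isProper_Uπ n
  have hP := isBlowUp_pullback rs φ hrs hrsA
  rw [map_vars] at hP
  obtain ⟨Φ, hΦ⟩ := exists_iso_of_isBlowUp hb' hP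
  let g' : X' ⟶ Proj (gr (UI.{u} n)) := Φ.hom ≫ pullback.fst b (Spec.map φ)
  have hsq : IsPullback g' b' b (Spec.map φ) :=
    IsPullback.of_iso_pullback ⟨by
      show (Φ.hom ≫ pullback.fst b (Spec.map φ)) ≫ b = b' ≫ Spec.map φ
      rw [Category.assoc, pullback.condition, ← Category.assoc, hΦ]⟩ Φ rfl hΦ
  have hbc := BaseChange.bc_torInd hsq (torInd_π rs φ hrs hrsA)
  haveI := hasLpull b
  haveI := QCohD.hasRpush b
  haveI := hasLpull b'
  haveI := QCohD.hasRpush b'
  haveI := hasLpull (Spec.map φ)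
  haveI := hasLpull g'
  obtain ⟨χ⟩ := BaseChange.nonempty_sq hsq.w (BaseChange.isLp_self b) (BaseChange.isLp_self b')
    (BaseChange.isLp_self (Spec.map φ)) (BaseChange.isLp_self g')
  have hiso : ∀ E, DCoh.IsQCohD E → Nonempty ((DCoh.Lpull (Spec.map φ)).obj ((DCoh.Rpush b).obj E) ≅
      (DCoh.Rpush b').obj ((DCoh.Lpull g').obj E)) := fun E hE => by
    haveI := hbc _ _ _ _ _ _ (lpullRpushAdj b) (lpullRpushAdj b') (BaseChange.isLp_self b)
      (BaseChange.isLp_self b') (BaseChange.isLp_self (Spec.map φ)) (BaseChange.isLp_self g') χ E hE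
    exact ⟨asIso (BaseChange.bcApp (lpullRpushAdj b) (lpullRpushAdj b') χ.hom E)⟩
  let E₀ := BlowUp.exceptional b (centre (UI.{u} n))
  have hb := isBlowUp_π (UI.{u} n)
  have hJ := H29Blow.isInvertible_of_isEffCartierIdeal _ hb.1
  have hvan : ∀ k q : ℕ, 1 ≤ q →
      IsZero ((Coh.RpushAb b q).obj (Coh.toAb (CohB1.tensorPow (ClSub.idealMod E₀) k))) := fun k q hq => by
    obtain ⟨q, rfl⟩ := Nat.exists_eq_add_of_le' hq
    refine H10Coh.isZero_rpush_of_vanishing b.base _ q {W | H11Blow.GoodOpen (centre (UI.{u} n)) n W} ?_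
      fun W hW => subsingleton_pow n k (q + 1) (by omega) hW
    exact TopologicalSpace.Opens.isBasis_iff_nbhd.2 fun {U x} hx => by
      obtain ⟨W, hW, hxW, hWU⟩ := exists_good_basicOpen n hx
      exact ⟨W, hW, hxW, hWU⟩
  have hLE : ∀ (M : (Proj (gr (UI.{u} n))).Modules), PicF.IsInvertible M →
      ((DCoh.Rpush b).obj (DCoh.inD _ M)).IsLE 0 →
      ((DCoh.Rpush b').obj (DCoh.inD _ ((Scheme.Modules.pullback g').obj M))).IsLE 0 := fun M hM h => by
    haveI := h
    have hMf := H28Pinch.isFinLocFree_of_isInvertible hM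
    obtain ⟨e⟩ := hiso (DCoh.inD _ M) (TorTest.isQCohD_inD (H8Props.FinLocFree.isQCoh_of_isFinLocFree _ hMf))
    haveI := isLE_lpull (Spec.map φ) ((DCoh.Rpush b).obj (DCoh.inD _ M)) 0
    exact DerivedCategory.TStructure.t.isLE_of_iso (e ≪≫ (DCoh.Rpush b').mapIso (lpullSingleIso g' hMf 0)) 0
  constructor
  · intro k q hq
    let M := CohB1.tensorPow (ClSub.idealMod E₀) k
    have hM : PicF.IsInvertible M := H11Ample.isInvertible_tensorPow hJ k
    have h1 := hLE M hM (isLE_of_isZero_rpushAb b M (hvan k))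
    have hE : BlowUp.exceptional b' (centre (Ideal.ofList (List.ofFn g))) = E₀.comap g' := by
      show (centre _).comap b' = ((centre (UI.{u} n)).comap b).comap g'
      rw [← Scheme.IdealSheafData.comap_comp, hsq.w, Scheme.IdealSheafData.comap_comp, comap_centre, map_vars]
    obtain ⟨θ⟩ := H12Pic.CurveFam.nonempty_pullback_idealMod_comap g' hb.1 (hE ▸ hb'.1)
    obtain ⟨e₁⟩ := H11Ample.exists_iso_pullback_tensorPow g' hJ k
    obtain ⟨-, ⟨e₂⟩⟩ := H11Blow.idealMod_pow (hb'.1) k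
    let e : (Scheme.Modules.pullback g').obj M ≅
        ClSub.idealMod ((BlowUp.exceptional b' (centre (Ideal.ofList (List.ofFn g)))) ^ k) :=
      e₁ ≪≫ H10Coh.Tw.tensorPowIso (θ ≪≫ eqToIso (congrArg ClSub.idealMod hE.symm)) k ≪≫ e₂.symm
    haveI := h1
    exact isZero_rpushAb_of_isLE b' _ (DerivedCategory.TStructure.t.isLE_of_iso
      ((DCoh.Rpush b').mapIso ((DerivedCategory.singleFunctor _ 0).mapIso e)) 0) q hq
  · let OP := Coh.structureModule (Proj (gr (UI.{u} n)))
    let OR := Coh.structureModule (Spec (UR.{u} n))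
    have hO : ((DCoh.Rpush b).obj (DCoh.inD _ OP)).IsLE 0 := isLE_of_isZero_rpushAb b OP (hvan 0)
    haveI : ((DCoh.Rpush b).obj (DCoh.inD _ OP)).IsGE 0 := isGE_rpush b _ 0
    haveI := hO
    obtain ⟨M', ⟨eM⟩⟩ := DerivedCategory.exists_iso_singleFunctor_obj_of_isGE_of_isLE
      ((DCoh.Rpush b).obj (DCoh.inD _ OP)) 0
    obtain ⟨e₀⟩ := nonempty_hd_zero_push b OP
    haveI : IsIso (ClSub.unitToPush b) := H28Pinch.isIso_of_locally_bijective _ fun y =>
      ⟨⊤, trivial, fun V _ => bijective_app_Uπ n V⟩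
    let eR : M' ≅ OR := ((DerivedCategory.singleFunctorCompHomologyFunctorIso _ 0).app M').symm ≪≫
      (DerivedCategory.homologyFunctor _ 0).mapIso eM.symm ≪≫ e₀ ≪≫ (asIso (ClSub.unitToPush b)).symm
    obtain ⟨e₁⟩ := hiso (DCoh.inD _ OP) (TorTest.isQCohD_inD H10Coh.isQuasicoherent_unit)
    let E : DCoh.inD (Spec A) (Coh.structureModule (Spec A)) ≅
        (DCoh.Rpush b').obj (DCoh.inD X' (Coh.structureModule X')) :=
      (H0Split.lpullO (Spec.map φ)).symm ≪≫
        (DCoh.Lpull (Spec.map φ)).mapIso ((DerivedCategory.singleFunctor _ 0).mapIso eR.symm ≪≫ eM.symm) ≪≫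
          e₁ ≪≫ (DCoh.Rpush b').mapIso (H0Split.lpullO g')
    obtain ⟨e₀'⟩ := nonempty_hd_zero_push b' (Coh.structureModule X')
    exact bijective_app_of_push_iso b'
      (((DerivedCategory.singleFunctorCompHomologyFunctorIso _ 0).app _).symm ≪≫
        (DerivedCategory.homologyFunctor _ 0).mapIso E ≪≫ e₀')

end Groth.Agent.H16Derived.BlowKoszul
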