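import Groth.Agent.H16Derived.BlowKoszul.Local
import Groth.Agent.H16Derived.Thomason.IsoTransport

/-!
# Direct images along a blow-up in a Koszul-regular centre
-/

set_option autoImplicit false
set_option linter.style.haveILetI false
set_option backward.isDefEq.respectTransparency false

universe u

open CategoryTheory CategoryTheory.Limits AlgebraicGeometry Opposite
open Groth.Agent.H26Blow
open Groth.Agent.H16Derived.KFlat Groth.Agent.H16Derived.KFlat.Stalk
open Groth.Agent.H16Derived.KoszulPow (Reg reg_iff)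

attribute [local instance] HasDerivedCategory.standard

namespace Groth.Agent.H16Derived.BlowKoszul

variable {X Y X' : Scheme.{u}} (i : Y ⟶ X) [IsClosedImmersion i]

/-- The centre is regular as an ideal. -/
theorem isRegularIdeal_ker (hi : RegImm.IsRegularImmersion .koszul i) : RegImm.IsRegularIdeal .koszul i.ker := by
  intro x hx
  obtain ⟨z, rfl⟩ : x ∈ Set.range i := by
    have h := hx
    rw [← SetLike.mem_coe, Scheme.Hom.support_ker] at h
    change x ∈ closure (Set.range i) at h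
    rwa [i.isClosedEmbedding.isClosed_range.closure_eq] at h
  obtain ⟨U, hzU, -, rs, hrs, hker⟩ := hi.2 z
  exact ⟨U, hzU, rs, hrs, by rw [Scheme.Hom.ker_apply, hker]⟩

/-- Regular generators of positive length near every point. -/
theorem exists_affine_pos (hi : RegImm.IsRegularImmersion .koszul i) (hdense : Dense (Set.range i)ᶜ) (x : X) :
    ∃ (U : X.affineOpens) (n : ℕ) (g : Fin (n + 1) → Γ(X, U.1)), x ∈ U.1 ∧ Reg (List.ofFn g) ∧
      i.ker.ideal U = Ideal.ofList (List.ofFn g) := by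
  obtain ⟨U, hxU, rs, hrs, hI⟩ := H7Blow.exists_affine_reg_ideal (isRegularIdeal_ker i hi) x
  obtain ⟨n, hn⟩ : ∃ n, rs.length = n + 1 := by
    rcases Nat.eq_zero_or_pos rs.length with h | h
    · exfalso
      obtain ⟨y, hyU, hy⟩ := hdense.inter_open_nonempty _ U.1.2 ⟨x, hxU⟩
      refine hy ?_
      have hs : y ∈ (i.ker.support : Set X) ∩ U.1 := by
        rw [Scheme.IdealSheafData.coe_support_inter, hI, List.length_eq_zero_iff.1 h, Ideal.ofList_nil]
        refine ⟨?_, hyU⟩
        simp [Scheme.zeroLocus]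
      rw [Scheme.Hom.support_ker] at hs
      exact i.isClosedEmbedding.isClosed_range.closure_eq.le hs.1
    · exact ⟨rs.length - 1, by omega⟩
  let g : Fin (n + 1) → Γ(X, U.1) := fun j => rs.get (Fin.cast hn.symm j)
  have hg : List.ofFn g = rs := List.ext_getElem (by simp [hn]) fun k h₁ h₂ => by
    rw [List.getElem_ofFn]
    rfl
  exact ⟨U, n, g, hxU, hg.symm ▸ hrs, by rw [hg, hI]⟩

variable (f : X' ⟶ X)

omit [IsClosedImmersion i] in
/-- Over an affine open with regular generators. -/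
theorem over_affine (hf : BlowUp.IsBlowUp f i.ker) {U : X.affineOpens} {n : ℕ} (g : Fin (n + 1) → Γ(X, U.1))
    (hg : Reg (List.ofFn g)) (hI : i.ker.ideal U = Ideal.ofList (List.ofFn g)) :
    (∀ [DCoh.HasRpush f] (k : ℕ),
      ((rd U.2.fromSpec).obj ((DCoh.Rpush f).obj
        (DCoh.inD X' (ClSub.idealMod ((BlowUp.exceptional f i.ker) ^ k))))).IsLE 0) ∧
    ∀ V : X.Opens, V ≤ U.1 → Function.Bijective (f.app V) := by
  have hb' := H7Blow.isBlowUp_affine_restrict hf U _ hI
  obtain ⟨hvan, hbij⟩ := affine_main g hg (f ∣_ U.1 ≫ U.2.isoSpec.hom) hb'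
  refine ⟨fun {_} k => ?_, fun V hV => ?_⟩
  · let b' := f ∣_ U.1 ≫ U.2.isoSpec.hom
    let iU := U.2.fromSpec
    let k' := (f ⁻¹ᵁ U.1).ι
    have hsq : IsPullback k' b' f iU := by
      have h1 := (isPullback_morphismRestrict f U.1).flip
      refine h1.of_iso (Iso.refl _) (Iso.refl _) U.2.isoSpec (Iso.refl _) ?_ ?_ ?_ ?_
      · simp [k']
      · simp [b']
      · simp
      · simp [iU]
    haveI := hasLpull f
    haveI := hasLpull b'
    haveI := QCohD.hasRpush b'
    haveI := hasLpull iU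
    haveI := hasLpull k'
    obtain ⟨χ⟩ := BaseChange.nonempty_sq hsq.w (BaseChange.isLp_self f) (BaseChange.isLp_self b')
      (BaseChange.isLp_self iU) (BaseChange.isLp_self k')
    let E := BlowUp.exceptional f i.ker
    have hE : BlowUp.exceptional b' (centre (Ideal.ofList (List.ofFn g))) = E.comap k' := by
      show (centre _).comap b' = (i.ker.comap f).comap k'
      rw [← H7Blow.comap_fromSpec i.ker U _ hI, ← Scheme.IdealSheafData.comap_comp,
        ← Scheme.IdealSheafData.comap_comp]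
      exact congrArg i.ker.comap hsq.w.symm
    have hJ := H29Blow.isInvertible_of_isEffCartierIdeal _ hf.1
    obtain ⟨hEk, ⟨e₀⟩⟩ := H11Blow.idealMod_pow hf.1 k
    obtain ⟨θ⟩ := H12Pic.CurveFam.nonempty_pullback_idealMod_comap k' hf.1 (hE ▸ hb'.1)
    obtain ⟨e₁⟩ := H11Ample.exists_iso_pullback_tensorPow k' hJ k
    obtain ⟨-, ⟨e₂⟩⟩ := H11Blow.idealMod_pow hb'.1 k
    let e : (Scheme.Modules.pullback k').obj (ClSub.idealMod (E ^ k)) ≅
        ClSub.idealMod ((BlowUp.exceptional b' (centre (Ideal.ofList (List.ofFn g)))) ^ k) :=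
      (Scheme.Modules.pullback k').mapIso e₀ ≪≫ e₁ ≪≫
        H10Coh.Tw.tensorPowIso (θ ≪≫ eqToIso (congrArg ClSub.idealMod hE.symm)) k ≪≫ e₂.symm
    have hMf := H28Pinch.isFinLocFree_of_isInvertible (H29Blow.isInvertible_of_isEffCartierIdeal _ hEk)
    obtain ⟨eU⟩ := QCohD.lpull_openImmersion iU ((DCoh.Rpush f).obj (DCoh.inD X' (ClSub.idealMod (E ^ k))))
    haveI := BaseChange.isIso_bcApp_openImmersion hsq χ (DCoh.inD X' (ClSub.idealMod (E ^ k)))
    haveI := isLE_of_isZero_rpushAb b' _ (fun q hq => hvan k q hq)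
    exact DerivedCategory.TStructure.t.isLE_of_iso
      (((DCoh.Rpush b').mapIso (lpullSingleIso k' hMf 0 ≪≫ (DerivedCategory.singleFunctor _ 0).mapIso e)).symm ≪≫
        (asIso (BaseChange.bcApp (lpullRpushAdj f) (lpullRpushAdj b') χ.hom
          (DCoh.inD X' (ClSub.idealMod (E ^ k))))).symm ≪≫ eU) 0
  · have h := hbij (U.2.isoSpec.inv ⁻¹ᵁ (U.1.ι ⁻¹ᵁ V))
    rw [Scheme.Hom.comp_app] at h
    haveI : IsIso (U.2.isoSpec.hom.app (U.2.isoSpec.inv ⁻¹ᵁ (U.1.ι ⁻¹ᵁ V))) := inferInstance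
    have h1 : Function.Bijective ((f ∣_ U.1).app (U.2.isoSpec.hom ⁻¹ᵁ (U.2.isoSpec.inv ⁻¹ᵁ (U.1.ι ⁻¹ᵁ V)))) := by
      change Function.Bijective (_ ∘ _) at h
      exact (Function.Bijective.of_comp_iff _ (ConcreteCategory.bijective_of_isIso
        (U.2.isoSpec.hom.app (U.2.isoSpec.inv ⁻¹ᵁ (U.1.ι ⁻¹ᵁ V))))).1 h
    have hW : U.2.isoSpec.hom ⁻¹ᵁ (U.2.isoSpec.inv ⁻¹ᵁ (U.1.ι ⁻¹ᵁ V)) = U.1.ι ⁻¹ᵁ V := by
      rw [← Scheme.Hom.comp_preimage, Iso.hom_inv_id]
      rfl
    rw [hW] at h1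
    rw [morphismRestrict_app] at h1
    have h2 : Function.Bijective (f.app (U.1.ι ''ᵁ (U.1.ι ⁻¹ᵁ V))) := by
      refine (Function.Bijective.of_comp_iff' (ConcreteCategory.bijective_of_isIso
        (X'.presheaf.map (eqToHom (image_morphismRestrict_preimage f U.1 (U.1.ι ⁻¹ᵁ V))).op)) _).1 ?_
      exact h1
    rwa [Scheme.Hom.image_preimage_eq_opensRange_inf, Scheme.Opens.opensRange_ι, inf_eq_right.2 hV] at h2

/-- **Higher direct images of the powers of the exceptional ideal.** -/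
theorem main (hi : RegImm.IsRegularImmersion .koszul i) (hdense : Dense (Set.range i)ᶜ)
    (hf : BlowUp.IsBlowUp f i.ker) :
    (∀ n q : ℕ, 1 ≤ q →
      IsZero ((Coh.RpushAb f q).obj (Coh.toAb (ClSub.idealMod ((BlowUp.exceptional f i.ker) ^ n))))) ∧
    IsIso ((Scheme.Modules.pullbackPushforwardAdjunction f).unit.app (Coh.structureModule X)) := by
  haveI := QCohD.hasRpush f
  refine ⟨fun k q hq => isZero_rpushAb_of_isLE f _ ?_ q hq, ?_⟩
  · refine (DerivedCategory.isLE_iff _ _).2 fun j hj => H17.FPExt.isZero_of_stalk _ fun x => ?_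
    obtain ⟨U, n, g, hxU, hg, hI⟩ := exists_affine_pos i hi hdense x
    obtain ⟨y, rfl⟩ : x ∈ Set.range U.2.fromSpec := by rw [U.2.range_fromSpec]; exact hxU
    haveI := (over_affine i f hf g hg hI).1 k
    by_contra hne
    refine (Thomason.mem_support_rd U.2.fromSpec _ j y).2 hne ?_
    exact ModuleCat.subsingleton_of_isZero ((DerSch.stalkFunctor _ y).map_isZero
      (DerivedCategory.isZero_of_isLE ((rd U.2.fromSpec).obj ((DCoh.Rpush f).obj
        (DCoh.inD X' (ClSub.idealMod ((BlowUp.exceptional f i.ker) ^ k))))) 0 j (by omega)))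
  · haveI : IsIso (ClSub.unitToPush f) := H28Pinch.isIso_of_locally_bijective _ fun x => by
      obtain ⟨U, n, g, hxU, hg, hI⟩ := exists_affine_pos i hi hdense x
      exact ⟨U.1, hxU, fun V hV => (over_affine i f hf g hg hI).2 V hV⟩
    refine H28Pinch.isIso_unit_of_isFinLocFree f (fun V => ?_) _ (H8Props.RelPC.isFinLocFree_structure X)
    haveI := Scheme.Modules.Hom.isIso_iff_isIso_app.1 ‹IsIso (ClSub.unitToPush f)› V
    exact ConcreteCategory.bijective_of_isIso ((ClSub.unitToPush f).app V)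

end Groth.Agent.H16Derived.BlowKoszul
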