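import Groth.Agent.H16Derived.KoszulTor.Pow
import Groth.Agent.H26Tor.BaseChange
import Groth.Agent.H7Blow.ChartRegular
import Mathlib.RingTheory.Localization.BaseChange
import Mathlib.RingTheory.TensorProduct.MvPolynomial

/-!
# `Tor` of blow-up charts and of their localisations
-/

set_option autoImplicit false
set_option linter.style.haveILetI false

universe u

open CategoryTheory CategoryTheory.Limits TensorProduct MvPolynomial
open Groth.Agent.H16Derived.KoszulPow (Reg reg_iff)

namespace Groth.Agent.H16Derived.BlowKoszul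

variable {R : Type u} [CommRing R]

/-- `Tor_{i+1}(C, N) = 0`. -/
def TorZero (C : Type u) [AddCommGroup C] [Module R C] (i : ℕ) (N : ModuleCat.{u} R) : Prop :=
  IsZero (((Tor (ModuleCat.{u} R) (i + 1)).obj (ModuleCat.of R C)).obj N)

/-- The criterion in degree one. -/
theorem torZero_zero_iff (C : Type u) [AddCommGroup C] [Module R C] {S : ShortComplex (ModuleCat.{u} R)}
    (hS : S.ShortExact) [Projective S.X₂] :
    TorZero C 0 S.X₃ ↔ Function.Injective (S.f.hom.lTensor C) :=
  H3CAlg.Tor.isZero_one_iff_injective (ModuleCat.of R C) S hS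

/-- Dimension shift. -/
theorem torZero_succ_iff (C : Type u) [AddCommGroup C] [Module R C] {S : ShortComplex (ModuleCat.{u} R)}
    (hS : S.ShortExact) [Projective S.X₂] (i : ℕ) :
    TorZero C (i + 1) S.X₃ ↔ TorZero C i S.X₁ := by
  obtain ⟨-, -, δ, w₁, w₂, h₁, h₂⟩ := H3CAlg.Tor.les₂ (ModuleCat.of R C) S hS (i + 1)
  have hP : ∀ j, IsZero (((Tor (ModuleCat.{u} R) (j + 1)).obj (ModuleCat.of R C)).obj S.X₂) := fun j =>
    isZero_Tor_succ_of_projective _ (ModuleCat.of R C) S.X₂ j
  haveI : Mono δ := h₁.mono_g ((hP (i + 1)).eq_of_src _ _)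
  haveI : Epi δ := h₂.epi_f ((hP i).eq_of_tgt _ _)
  haveI := isIso_of_mono_of_epi δ
  exact ⟨fun h => h.of_iso (asIso δ).symm, fun h => h.of_iso (asIso δ)⟩

section Ext

variable {C : Type u} [CommRing C] [Algebra R C] {D : Type u} [CommRing D] [Algebra R D] [Algebra C D]
  [IsScalarTower R C D]

/-- The first change of coefficients. -/
theorem injective_lTensor_of_flat [Module.Flat C D] {K G : Type u} [AddCommGroup K] [Module R K]
    [AddCommGroup G] [Module R G] (f : K →ₗ[R] G) (h : Function.Injective (f.lTensor C)) :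
    Function.Injective (f.lTensor D) := by
  have h' : Function.Injective ((f.baseChange C).lTensor D) :=
    Module.Flat.lTensor_preserves_injective_linearMap (f.baseChange C) h
  let a := AlgebraTensorModule.cancelBaseChange R C D D K
  let b := AlgebraTensorModule.cancelBaseChange R C D D G
  have hc : ∀ x, b ((f.baseChange C).lTensor D x) = f.lTensor D (a x) := by
    intro x
    induction x using TensorProduct.induction_on with
    | zero => simp
    | tmul d y =>
      induction y using TensorProduct.induction_on with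
      | zero => simp
      | tmul c k => simp [a, b]
      | add y z hy hz => simp only [TensorProduct.tmul_add, map_add, hy, hz]
    | add y z hy hz => simp only [map_add, hy, hz]
  intro x y hxy
  apply a.symm.injective
  apply h'
  apply b.injective
  rw [hc, hc, LinearEquiv.apply_symm_apply, LinearEquiv.apply_symm_apply, hxy]

/-- Vanishing passes to flat algebras over the first variable. -/
theorem torZero_of_flat [Module.Flat C D] : ∀ (i : ℕ), (∀ N : ModuleCat.{u} R, TorZero C i N → TorZero D i N) := by
  intro i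
  induction i with
  | zero =>
    intro N h
    obtain ⟨K, f, w, hS⟩ := H3CAlg.Tor.exists_presentation N
    exact (torZero_zero_iff D hS).2 (injective_lTensor_of_flat f.hom ((torZero_zero_iff C hS).1 h))
  | succ i ih =>
    intro N h
    obtain ⟨K, f, w, hS⟩ := H3CAlg.Tor.exists_presentation N
    exact (torZero_succ_iff D hS i).2 (ih _ ((torZero_succ_iff C hS i).1 h))

end Ext

section Loc

variable {B : Type u} [CommRing B] [Algebra R B]

/-- Injectivity is local on the coefficients. -/
theorem injective_lTensor_of_local {K G : Type u} [AddCommGroup K] [Module R K] [AddCommGroup G] [Module R G]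
    (f : K →ₗ[R] G)
    (h : ∀ (p : Ideal B) [p.IsMaximal], ∃ (L : Type u) (_ : CommRing L) (_ : Algebra R L) (_ : Algebra B L)
      (_ : IsScalarTower R B L), IsLocalization p.primeCompl L ∧ Function.Injective (f.lTensor L)) :
    Function.Injective (f.lTensor B) := by
  rw [injective_iff_map_eq_zero]
  intro x hx
  let J : Ideal B := LinearMap.ker (LinearMap.toSpanSingleton B (B ⊗[R] K) x)
  suffices hJ : J = ⊤ by
    have h1 : (1 : B) ∈ J := hJ ▸ Submodule.mem_top
    simpa [J] using h1
  by_contra hne
  obtain ⟨p, hp, hle⟩ := J.exists_le_maximal hne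
  obtain ⟨L, _, _, _, _, hL, hinj⟩ := @h p hp
  haveI := hL
  let ι : B →ₗ[B] L := Algebra.linearMap B L
  haveI : IsLocalizedModule p.primeCompl ι := (isLocalizedModule_iff_isLocalization' _ L).2 hL
  let ρ := AlgebraTensorModule.rTensor R K ι
  haveI : IsLocalizedModule p.primeCompl ρ := inferInstance
  have hc : ∀ y : B ⊗[R] K, f.lTensor L (ρ y) = AlgebraTensorModule.rTensor R G ι (f.lTensor B y) := by
    intro y
    induction y using TensorProduct.induction_on with
    | zero => simp
    | tmul b k => rfl
    | add y z hy hz => simp only [map_add, hy, hz]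
  have h0 : ρ x = 0 := hinj (by rw [hc, hx, map_zero, map_zero])
  obtain ⟨s, hs⟩ := (IsLocalizedModule.eq_zero_iff p.primeCompl ρ).1 h0
  exact s.2 (hle (show (s : B) ∈ LinearMap.ker _ from hs))

/-- Vanishing is local on the first variable. -/
theorem torZero_of_local : ∀ (i : ℕ) (N : ModuleCat.{u} R),
    (∀ (p : Ideal B) [p.IsMaximal], ∃ (L : Type u) (_ : CommRing L) (_ : Algebra R L) (_ : Algebra B L)
      (_ : IsScalarTower R B L), IsLocalization p.primeCompl L ∧ TorZero L i N) → TorZero B i N := by
  intro i
  induction i with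
  | zero =>
    intro N h
    obtain ⟨K, f, w, hS⟩ := H3CAlg.Tor.exists_presentation N
    refine (torZero_zero_iff B hS).2 (injective_lTensor_of_local f.hom fun p hp => ?_)
    obtain ⟨L, i₁, i₂, i₃, i₄, hL, hz⟩ := @h p hp
    exact ⟨L, i₁, i₂, i₃, i₄, hL, (torZero_zero_iff L hS).1 hz⟩
  | succ i ih =>
    intro N h
    obtain ⟨K, f, w, hS⟩ := H3CAlg.Tor.exists_presentation N
    refine (torZero_succ_iff B hS i).2 (ih _ fun p hp => ?_)
    obtain ⟨L, i₁, i₂, i₃, i₄, hL, hz⟩ := @h p hp
    exact ⟨L, i₁, i₂, i₃, i₄, hL, (torZero_succ_iff L hS i).1 hz⟩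

end Loc

open H7Blow in
/-- **The charts are `Tor` independent of algebras keeping the sequence regular.** -/
theorem torZero_chart {A : Type u} [CommRing A] [Algebra R A] {n : ℕ} (a : R) (c : Fin n → R)
    (H : Reg (a :: List.ofFn c)) (H' : Reg (algebraMap R A a :: List.ofFn fun j => algebraMap R A (c j)))
    (i : ℕ) : TorZero (MvPolynomial (Fin n) R ⧸ Ideal.ofList (rel a c)) i (ModuleCat.of R A) := by
  let P := MvPolynomial (Fin n) R
  let Q := P ⊗[R] A
  let e : Q ≃ₐ[R] MvPolynomial (Fin n) A :=
    (Algebra.TensorProduct.comm R P A).trans ((MvPolynomial.algebraTensorAlgEquiv R A).restrictScalars R)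
  have hQ : Reg ((rel a c).map (algebraMap P Q)) := by
    have h1 := reg_rel (algebraMap R A a) (fun j => algebraMap R A (c j)) H'
    have h2 := reg_map_bijective e.symm.toRingEquiv.toRingHom e.symm.bijective h1
    have he : ∀ p : P, e (algebraMap P Q p) = MvPolynomial.map (algebraMap R A) p := by
      intro p
      refine DFunLike.congr_fun (f := (e.toAlgHom.toRingHom.comp (algebraMap P Q)))
        (g := MvPolynomial.map (algebraMap R A)) (MvPolynomial.ringHom_ext (fun r => ?_) (fun j => ?_)) p
      · simp [e, P, Q, Algebra.TensorProduct.algebraMap_apply, MvPolynomial.algebraTensorAlgEquiv_tmul]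
      · simp [e, P, Q, Algebra.TensorProduct.algebraMap_apply, MvPolynomial.algebraTensorAlgEquiv_tmul]
    have h3 : (rel (algebraMap R A a) fun j => algebraMap R A (c j)).map e.symm.toRingEquiv.toRingHom =
        (rel a c).map (algebraMap P Q) := by
      rw [rel, rel, List.map_ofFn, List.map_ofFn]
      refine congrArg List.ofFn (funext fun j => e.injective ?_)
      show e (e.symm _) = e (algebraMap P Q _)
      rw [AlgEquiv.apply_symm_apply, he]
      simp
    rw [h3] at h2
    exact h2
  have hz := KoszulTor.torAcyclic_quotient (A := P) (A' := Q) (rel a c) ((reg_iff _).1 (reg_rel a c H))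
    ((reg_iff _).1 hQ) i
  obtain ⟨F⟩ : Nonempty (ProjectiveResolution (ModuleCat.of R A)) := HasProjectiveResolution.out
  obtain ⟨φ, hφ⟩ := H26Tor.exists_semilinear_tor_right (A := R) (A' := P) (P ⧸ Ideal.ofList (rel a c)) F
    (fun m => by
      rw [HomologicalComplex.exactAt_iff_isZero_homology]
      exact (H1CAlg.isZero_Tor_of_flat (ModuleCat.of R P) (ModuleCat.of R A) m).of_iso
        (F.isoLeftDerivedObj ((MonoidalCategory.tensoringLeft (ModuleCat.{u} R)).obj (ModuleCat.of R P)) (m + 1)).symm)
    (i + 1)
  let ε : (ModuleCat.extendScalars (algebraMap R P)).obj (ModuleCat.of R A) ≅ ModuleCat.of P Q :=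
    (H26Tor.extendEquiv (A' := P) (ModuleCat.of R A)).symm.toModuleIso
  haveI := ModuleCat.subsingleton_of_isZero (hz.of_iso
    (((Tor (ModuleCat.{u} P) (i + 1)).obj (ModuleCat.of P (P ⧸ Ideal.ofList (rel a c)))).mapIso ε))
  haveI : Subsingleton (((Tor (ModuleCat.{u} R) (i + 1)).obj (ModuleCat.of R (P ⧸ Ideal.ofList (rel a c)))).obj
      (ModuleCat.of R A)) := hφ.1.subsingleton
  exact ModuleCat.isZero_of_subsingleton _

end Groth.Agent.H16Derived.BlowKoszul
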