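import Groth.Agent.H11Blow.Main
import Groth.Agent.H02CA.BlowPts.QuasiReg
import Groth.Agent.H7Blow.BaseChange
import Groth.Agent.H05EGA4.NoetherCI
import Mathlib.RingTheory.RegularLocalRing.Polynomial

/-!
# The universal blow-up in `n + 1` variables
-/

set_option autoImplicit false
set_option linter.style.haveILetI false
set_option backward.isDefEq.respectTransparency false

universe u

open CategoryTheory CategoryTheory.Limits AlgebraicGeometry Opposite
open Groth.Agent.H26Blow Groth.Agent.H10Coh Groth.Agent.H11Blow Groth.Agent.H11Ample Groth.Agent.H11Tilde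

namespace Groth.Agent.H16Derived.BlowKoszul

/-- `ℤ[X₀, …, X_n]`. -/
noncomputable abbrev UR (n : ℕ) : CommRingCat.{u} := CommRingCat.of (MvPolynomial (Fin (n + 1)) (ULift.{u} ℤ))

/-- The variables. -/
noncomputable def vars (n : ℕ) : List (UR.{u} n) := List.ofFn fun j : Fin (n + 1) => MvPolynomial.X j

/-- The ideal of the origin. -/
noncomputable abbrev UI (n : ℕ) : Ideal (UR.{u} n) := Ideal.ofList (vars.{u} n)

/-- The universal blow-up. -/
noncomputable abbrev Uπ (n : ℕ) : Proj (gr (UI.{u} n)) ⟶ Spec (UR.{u} n) := π (UI.{u} n)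

theorem UI_eq (n : ℕ) :
    UI.{u} n = Ideal.span (Set.range fun j : Fin (n + 1) => (MvPolynomial.X j : UR.{u} n)) :=
  congrArg Ideal.span (Set.ext fun _ => List.mem_ofFn)

instance isPrincipalIdealRing_ulift : IsPrincipalIdealRing (ULift.{u} ℤ) :=
  IsPrincipalIdealRing.of_surjective ULift.ringEquiv.symm.toRingHom ULift.ringEquiv.symm.surjective

instance isDomain_ulift : IsDomain (ULift.{u} ℤ) := MulEquiv.isDomain ℤ ULift.ringEquiv.toMulEquiv

instance isRegularRing_ulift : IsRegularRing (ULift.{u} ℤ) :=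
  haveI : IsDedekindDomain (ULift.{u} ℤ) := inferInstance
  inferInstance

instance isRegularRing_UR (n : ℕ) : IsRegularRing (UR.{u} n) :=
  inferInstanceAs (IsRegularRing (MvPolynomial (Fin (n + 1)) (ULift.{u} ℤ)))

instance isNoetherian_UR (n : ℕ) : IsNoetherianRing (UR.{u} n) :=
  inferInstanceAs (IsNoetherianRing (MvPolynomial (Fin (n + 1)) (ULift.{u} ℤ)))

theorem regular_stalk (n : ℕ) (y : Spec (UR.{u} n)) :
    IsRegularLocalRing ((Spec (UR.{u} n)).presheaf.stalk y) := by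
  let X := Spec (UR.{u} n)
  haveI : IsRegularRing Γ(X, ⊤) :=
    IsRegularRing.of_ringEquiv (Scheme.ΓSpecIso (UR.{u} n)).commRingCatIsoToRingEquiv.symm
  let p := ((isAffineOpen_top X).primeIdealOf ⟨y, trivial⟩).asIdeal
  letI : Algebra Γ(X, ⊤) (X.presheaf.stalk y) := (X.presheaf.germ ⊤ y trivial).hom.toAlgebra
  haveI : IsLocalization.AtPrime (X.presheaf.stalk y) p :=
    (isAffineOpen_top X).isLocalization_stalk ⟨y, trivial⟩
  exact IsRegularLocalRing.of_ringEquiv
    (IsLocalization.algEquiv p.primeCompl (Localization.AtPrime p) (X.presheaf.stalk y)).toRingEquiv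

theorem goodOpen (n : ℕ) : GoodOpen (centre (UI.{u} n)) n (⊤ : (Spec (UR.{u} n)).Opens) := by
  let φ := (Scheme.ΓSpecIso (UR.{u} n)).inv.hom
  refine ⟨isAffineOpen_top _, fun j => φ (MvPolynomial.X j), ?_,
    isQuasiRegular_map φ (ConcreteCategory.bijective_of_isIso (Scheme.ΓSpecIso (UR.{u} n)).inv)
      (H02CA.BlowPts.isQuasiRegular_X (ULift.{u} ℤ) (n + 1))⟩
  rw [ideal_centre_top, UI_eq, Ideal.map_span, ← Set.range_comp]
  rfl

theorem isProper_Uπ (n : ℕ) : IsProper (Uπ.{u} n) := isProper_π (IsNoetherian.noetherian _)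

theorem bijective_app_Uπ (n : ℕ) (V : (Spec (UR.{u} n)).Opens) : Function.Bijective ((Uπ.{u} n).app V) := by
  haveI := isProper_Uπ.{u} n
  haveI : Nonempty (⊤ : (Spec (UR.{u} n)).Opens).toScheme :=
    ⟨⟨(inferInstance : Nonempty (PrimeSpectrum (UR.{u} n))).some, trivial⟩⟩
  haveI : IsIntegral (⊤ : (Spec (UR.{u} n)).Opens).toScheme :=
    isIntegral_of_isOpenImmersion (⊤ : (Spec (UR.{u} n)).Opens).ι
  exact bijective_app_nice (isBlowUp_π _) ⟨goodOpen n, inferInstance⟩ (regular_stalk n) le_top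

/-- Good opens form a basis. -/
theorem exists_good_basicOpen (n : ℕ) {x : Spec (UR.{u} n)} {O : (Spec (UR.{u} n)).Opens} (hx : x ∈ O) :
    ∃ W : (Spec (UR.{u} n)).Opens, GoodOpen (centre (UI.{u} n)) n W ∧ x ∈ W ∧ W ≤ O := by
  let Y := Spec (UR.{u} n)
  obtain ⟨hU, g, hI, hq⟩ := goodOpen.{u} n
  obtain ⟨r, hrO, hxr⟩ := hU.exists_basicOpen_le (V := O) ⟨x, hx⟩ trivial
  refine ⟨Y.basicOpen r, ⟨hU.basicOpen r,
    fun m => Y.presheaf.map (homOfLE (Y.basicOpen_le r)).op (g m), ?_, ?_⟩, hxr, hrO⟩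
  · rw [← (centre (UI.{u} n)).map_ideal (U := ⟨_, hU.basicOpen r⟩) (V := ⟨⊤, hU⟩) (Y.basicOpen_le r), hI,
      Ideal.map_span, ← Set.range_comp]
    rfl
  · haveI := hU.isLocalization_basicOpen r
    exact H29Slice.isQuasiRegular_localization (L := Γ(Y, Y.basicOpen r)) (Submonoid.powers r) hq

/-- The powers of the exceptional ideal have no higher cohomology. -/
theorem subsingleton_pow (n k q : ℕ) (hq : 1 ≤ q) {W : (Spec (UR.{u} n)).Opens}
    (hG : GoodOpen (centre (UI.{u} n)) n W) :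
    Subsingleton (HnM (CohB1.tensorPow (ClSub.idealMod (BlowUp.exceptional (Uπ.{u} n) (centre (UI n)))) k) q
      ((Uπ.{u} n) ⁻¹ᵁ W)) := by
  let b := Uπ.{u} n
  haveI : IsProper b := isProper_Uπ n
  haveI : IsLocallyNoetherian (Proj (gr (UI.{u} n))) := LocallyOfFiniteType.isLocallyNoetherian b
  have hb := isBlowUp_π (UI.{u} n)
  let E := BlowUp.exceptional b (centre (UI n))
  have hJ := H29Blow.isInvertible_of_isEffCartierIdeal _ hb.1
  obtain ⟨k₀, hk₀⟩ := Tw.exists_vanishing_relAmple b hJ (fun _ hV => isAmple_restrict hb hV)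
    (Coh.structureModule _) (H10Coh.isCoh_structureModule' _) hG.choose
  suffices key : ∀ t k : ℕ, k₀ ≤ k + t → ∀ q, 1 ≤ q →
      Subsingleton (HnM (CohB1.tensorPow (ClSub.idealMod E) k) q (b ⁻¹ᵁ W)) from key k₀ k (by omega) q hq
  intro t
  induction t with
  | zero => exact fun k hk q hq => Tw.subsingleton_of_iso (Tw.leftUnitIso _) (hk₀ k hk q hq)
  | succ t ih =>
    intro k hk q hq
    obtain ⟨S, hS, ⟨e₁⟩, ⟨e₂⟩, ⟨e₃⟩⟩ := exists_seq E (isInvertible_tensorPow hJ k)
    have h1 : Subsingleton (HnM S.X₁ q (b ⁻¹ᵁ W)) :=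
      Tw.subsingleton_of_iso ((Tw.commIso _ _) ≪≫ e₁.symm) (ih (k + 1) (by omega) q hq)
    have h3 : Subsingleton (HnM S.X₃ q (b ⁻¹ᵁ W)) :=
      Tw.subsingleton_of_iso e₃.symm (subsingleton_exc_pow hb hG k q hq)
    exact Tw.subsingleton_of_iso e₂ (Tw.subsingleton_X₂ (shortExact_sh hS) h1 h3)

end Groth.Agent.H16Derived.BlowKoszul
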